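import Cfsg.Agent.H759.Dl.Asm
import Cfsg.Agent.H103.ThreeP.PslFacts
import Cfsg.Agent.SmallSimple.PSLTwoPart

/-!
# S4769: the exceptions of `TwoOr` have abelian Sylow subgroups (helper759)

* `dlLe_exc` : `DlLe p 1 S` in the exceptional cases of `TwoOr`;
* `row_of_dl_two` : `DlLe p 2 S`, `FactTwo` and `FactIM` give the row of `S`;
* `row_of_card` : the same for Sylow subgroups of order at most `p²`.
-/

set_option autoImplicit false

open Cfsg

namespace Cfsg.Agent.H759.Dl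

open Cfsg.Agent.H246.Dl Cfsg.Agent.H596.OneFacts

universe u

theorem dlLe_defL2 {p : ℕ} (hp : p.Prime) {S : Type u} [Group S] [Finite S] (h : DefL2 p S) : DlLe p 1 S := by
  obtain ⟨F, _, _, hF, -, ⟨e⟩⟩ := h
  have : Fact p.Prime := ⟨hp⟩
  exact DlLe.of_equiv e (dlLe_one_of_comm fun P => H103.ThreeP.PslFacts.sylow_comm' p P)

theorem card_l28 {S : Type u} [Group S] (h : L28 S) : Nat.card S = 504 := by
  obtain ⟨F, _, _, hF, ⟨e⟩⟩ := h
  rw [Nat.card_congr e.toEquiv]
  have := SmallSimple.PSLTwoPart.card_psl_two_even (F := F) (by rw [hF]; decide)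
  rw [this, hF]
  norm_num

/-- The exceptional cases of `TwoOr`. -/
theorem dlLe_exc {p : ℕ} (hp : p.Prime) {S : Type u} [Group S] [Finite S]
    (h : DefL2 p S ∨ (p = 3 ∧ (Cfsg.IsM11 S ∨ Nonempty (S ≃* alternatingGroup (Fin 5)) ∨ L28 S))) : DlLe p 1 S := by
  rcases h with h | ⟨rfl, h | ⟨⟨e⟩⟩ | h⟩
  · exact dlLe_defL2 hp h
  · refine dlLe_one_of_card hp ?_
    rw [h.2]; norm_num
  · refine dlLe_one_of_card hp ?_
    rw [Nat.card_congr e.toEquiv, nat_card_alternatingGroup]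
    simp [Nat.factorial]
  · refine dlLe_one_of_card hp ?_
    rw [card_l28 h]; norm_num

/-- Derived length at most two. -/
theorem row_of_dl_two (T : FactTwo.{u}) (I : H671.H5.FactIM.{u}) {p : ℕ} {S : Type u} [Group S] [Finite S]
    [IsSimpleGroup S] (hc : ¬ IsMulCommutative S) (hp : p.Prime) (hd : p ∣ Nat.card S) (h : DlLe p 2 S) : Row p S :=
  row_of_two h (T S hc p hp hd) (I S hc p hp hd) (dlLe_exc hp)

/-- Derived length at most one. -/
theorem row_of_dl_one (I : H671.H5.FactIM.{u}) {p : ℕ} {S : Type u} [Group S] [Finite S]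
    [IsSimpleGroup S] (hc : ¬ IsMulCommutative S) (hp : p.Prime) (hd : p ∣ Nat.card S) (h : DlLe p 1 S) : Row p S :=
  Row.of_im h (I S hc p hp hd)

/-- Sylow subgroups of order at most `p²`. -/
theorem row_of_card (I : H671.H5.FactIM.{u}) {p : ℕ} {S : Type u} [Group S] [Finite S]
    [IsSimpleGroup S] (hc : ¬ IsMulCommutative S) (hp : p.Prime) (hd : p ∣ Nat.card S) (h : ¬ p ^ 3 ∣ Nat.card S) :
    Row p S := row_of_dl_one I hc hp hd (dlLe_one_of_card hp h)

end Cfsg.Agent.H759.Dl
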