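import Cfsg.Agent.H246.Dl.Defs
import Cfsg.Prelude.Def_Classification2

/-!
# The derived length of a Sylow subgroup of a simple group (S4769, S4767): assembly (helper759)

* `RowF P` : the rows of the simple groups of an isomorphism type;
* `Missing` : the rows of all the families;
* `dlLe_one_of_card` : Sylow `p`-subgroups of order at most `p²`;
* `row_of_two` : `DlLe p 2` and `TwoOr p` give the row;
* `factDl_of_missing`.
-/

set_option autoImplicit false

open Cfsg

namespace Cfsg.Agent.H759.Dl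

open Cfsg.Agent.H246.Dl Cfsg.Agent.H596.OneFacts

universe u

/-- The rows of an isomorphism type. -/
def RowF (P : ∀ (S : Type u) [Group S], Prop) : Prop :=
  ∀ (S : Type u) [Group S] [Finite S] [IsSimpleGroup S], P S → ∀ {p : ℕ}, p.Prime → p ∣ Nat.card S → Row p S

/-- `PSL_n(q)`, `n ≥ 3`. -/
def IsLn (S : Type u) [Group S] : Prop :=
  ∃ (F : Type) (_ : Field F) (_ : Fintype F) (n : ℕ), 3 ≤ n ∧
    Nonempty (S ≃* Matrix.ProjectiveSpecialLinearGroup (Fin n) F)

/-- The rows. -/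
structure Missing : Prop where
  alt : RowF.{u} (fun S => IsAlternating S)
  l2 : RowF.{u} (fun S => H671.H5.IsL2 S)
  ln : RowF.{u} (fun S => IsLn S)
  psp : RowF.{u} (fun S => IsPSp S)
  psu : RowF.{u} (fun S => IsPSU S)
  odd : RowF.{u} (fun S => IsPOmegaOdd S)
  plus : RowF.{u} (fun S => IsPOmegaPlus S)
  minus : RowF.{u} (fun S => IsPOmegaMinus S)
  g2 : RowF.{u} (fun S => Lie.IsoChevG2 S)
  f4 : RowF.{u} (fun S => Lie.IsoF4 S)
  e6 : RowF.{u} (fun S => Lie.IsoChevE6 S)
  e7 : RowF.{u} (fun S => Lie.IsoE7 S)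
  e8 : RowF.{u} (fun S => Lie.IsoE8 S)
  te6 : RowF.{u} (fun S => Lie.Iso2E6 S)
  td4 : RowF.{u} (fun S => Lie.Iso3D4 S)
  sz : RowF.{u} (fun S => Lie.IsoSuzuki S)
  ree : RowF.{u} (fun S => Lie.IsoRee S)
  tf4 : RowF.{u} (fun S => Lie.Iso2F4 S)
  tits : RowF.{u} (fun S => Lie.IsoTits S)
  spor : RowF.{u} (fun S => IsSporadicGroup S)

/-- The sporadic rows. -/
structure MissingSpor : Prop where
  m11 : RowF.{u} (fun S => Spor.IsoM11 S)
  m12 : RowF.{u} (fun S => Spor.IsoM12 S)
  m22 : RowF.{u} (fun S => Spor.IsoM22 S)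
  m23 : RowF.{u} (fun S => Spor.IsoM23 S)
  m24 : RowF.{u} (fun S => Spor.IsoM24 S)
  j1 : RowF.{u} (fun S => Spor.IsoJ1 S)
  j2 : RowF.{u} (fun S => Spor.IsoJ2 S)
  j3 : RowF.{u} (fun S => Spor.IsoJ3 S)
  j4 : RowF.{u} (fun S => Spor.IsoJ4 S)
  co1 : RowF.{u} (fun S => Spor.IsoCo1 S)
  co2 : RowF.{u} (fun S => Spor.IsoCo2 S)
  co3 : RowF.{u} (fun S => Spor.IsoCo3 S)
  mcl : RowF.{u} (fun S => Spor.IsoMcL S)
  hs : RowF.{u} (fun S => Spor.IsoHS S)
  suz : RowF.{u} (fun S => Spor.IsoSuz S)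
  he : RowF.{u} (fun S => Spor.IsoHe S)
  ru : RowF.{u} (fun S => Spor.IsoRu S)
  on : RowF.{u} (fun S => Spor.IsoON S)
  ly : RowF.{u} (fun S => Spor.IsoLy S)
  fi22 : RowF.{u} (fun S => Spor.IsoFi22 S)
  fi23 : RowF.{u} (fun S => Spor.IsoFi23 S)
  fi24 : RowF.{u} (fun S => Spor.IsoFi24' S)
  hn : RowF.{u} (fun S => Spor.IsoHN S)
  th : RowF.{u} (fun S => Spor.IsoTh S)
  b : RowF.{u} (fun S => Spor.IsoB S)
  m : RowF.{u} (fun S => Spor.IsoM S)

theorem spor_of (M : MissingSpor.{u}) : RowF.{u} (fun S => IsSporadicGroup S) := by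
  intro S _ _ _ h p hp hd
  rcases h with h | h | h | h | h | h | h | h | h | h | h | h | h | h | h | h | h | h | h | h | h |
    h | h | h | h | h
  · exact M.m11 S h hp hd
  · exact M.m12 S h hp hd
  · exact M.m22 S h hp hd
  · exact M.m23 S h hp hd
  · exact M.m24 S h hp hd
  · exact M.j1 S h hp hd
  · exact M.j2 S h hp hd
  · exact M.j3 S h hp hd
  · exact M.j4 S h hp hd
  · exact M.co1 S h hp hd
  · exact M.co2 S h hp hd
  · exact M.co3 S h hp hd
  · exact M.mcl S h hp hd
  · exact M.hs S h hp hd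
  · exact M.suz S h hp hd
  · exact M.he S h hp hd
  · exact M.ru S h hp hd
  · exact M.on S h hp hd
  · exact M.ly S h hp hd
  · exact M.fi22 S h hp hd
  · exact M.fi23 S h hp hd
  · exact M.fi24 S h hp hd
  · exact M.hn S h hp hd
  · exact M.th S h hp hd
  · exact M.b S h hp hd
  · exact M.m S h hp hd

theorem psl_of (M : Missing.{u}) : RowF.{u} (fun S => IsPSL S) := by
  intro S _ _ _ h p hp hd
  obtain ⟨F, iF, iT, n, hn, h4, he⟩ := h
  rcases Nat.lt_or_ge n 3 with h3 | h3
  · obtain rfl : n = 2 := by omega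
    exact M.l2 S ⟨F, iF, iT, h4 rfl, he⟩ hp hd
  · exact M.ln S ⟨F, iF, iT, n, h3, he⟩ hp hd

/-- All known simple groups. -/
theorem row_known (M : Missing.{u}) {S : Type u} [Group S] [Finite S] [IsSimpleGroup S] (h : IsKnownSimple' S)
    (hc : ¬ IsMulCommutative S) {p : ℕ} (hp : p.Prime) (hd : p ∣ Nat.card S) : Row p S := by
  rcases h with h | h | h | h | h | h | h | h | h | h
  · exfalso
    apply hc
    have : Fact (Nat.card S).Prime := ⟨h⟩
    have h1 : IsCyclic S := isCyclic_of_prime_card rfl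
    exact ⟨⟨fun a b => (IsCyclic.commGroup (α := S)).mul_comm a b⟩⟩
  · exact M.alt S h hp hd
  · exact psl_of M S h hp hd
  · exact M.psp S h hp hd
  · exact M.psu S h hp hd
  · exact M.odd S h hp hd
  · exact M.plus S h hp hd
  · exact M.minus S h hp hd
  · rcases h with h | h | h | h | h | h | h | h | h | h | h
    · exact M.g2 S h hp hd
    · exact M.f4 S h hp hd
    · exact M.e6 S h hp hd
    · exact M.e7 S h hp hd
    · exact M.e8 S h hp hd
    · exact M.te6 S h hp hd
    · exact M.td4 S h hp hd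
    · exact M.sz S h hp hd
    · exact M.ree S h hp hd
    · exact M.tf4 S h hp hd
    · exact M.tits S h hp hd
  · exact M.spor S h hp hd

/-- **`FactDl` from the rows.** -/
theorem factDl_of_missing (M : Missing.{u}) (hK : ∀ (X : Type u) [Group X] [Finite X] [IsSimpleGroup X], IsKnownSimple' X) :
    H596.DerLen.FactDl.{u} :=
  factDl fun S _ _ _ hc _ hp hd => row_known M (hK S) hc hp hd

/-! ### Small Sylow subgroups -/

/-- commutative Sylow subgroups -/
theorem dlLe_one_of_comm {p : ℕ} {S : Type u} [Group S]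
    (h : ∀ P : Sylow p S, ∀ a ∈ (P : Subgroup S), ∀ b ∈ (P : Subgroup S), a * b = b * a) : DlLe p 1 S := by
  intro P
  rw [derivedSeries_one, commutator_eq_bot_iff_center_eq_top, eq_top_iff]
  intro x _
  rw [Subgroup.mem_center_iff]
  intro y
  exact Subtype.ext (h P y y.2 x x.2)

/-- Sylow subgroups of order at most `p²` -/
theorem dlLe_one_of_card {p : ℕ} (hp : p.Prime) {S : Type u} [Group S] [Finite S] (h : ¬ p ^ 3 ∣ Nat.card S) :
    DlLe p 1 S := by
  have : Fact p.Prime := ⟨hp⟩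
  refine dlLe_one_of_comm fun P => ?_
  obtain ⟨n, hn⟩ := IsPGroup.iff_card.1 P.isPGroup'
  have hn3 : n < 3 := by
    by_contra h3
    exact h ((pow_dvd_pow p (not_lt.1 h3)).trans (hn ▸ Subgroup.card_subgroup_dvd_card _))
  have key : ∀ a b : (P : Subgroup S), a * b = b * a := by
    interval_cases n
    · have : Subsingleton (P : Subgroup S) := (Nat.card_eq_one_iff_unique.1 (by simpa using hn)).1
      exact fun a b => Subsingleton.elim _ _
    · have h1 : IsCyclic (P : Subgroup S) := isCyclic_of_prime_card (p := p) (by simpa using hn)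
      exact (IsCyclic.commGroup (α := (P : Subgroup S))).mul_comm
    · exact (IsPGroup.commGroupOfCardEqPrimeSq (p := p) hn).mul_comm
  intro a ha b hb
  exact congrArg Subtype.val (key ⟨a, ha⟩ ⟨b, hb⟩)

/-- Derived length at most two, from `TwoOr`. -/
theorem row_of_two {p : ℕ} {S : Type u} [Group S] (h2 : DlLe p 2 S) (ht : TwoOr p S) (him : H33.IM p S)
    (h1 : DefL2 p S ∨ (p = 3 ∧ (Cfsg.IsM11 S ∨ Nonempty (S ≃* alternatingGroup (Fin 5)) ∨ L28 S)) → DlLe p 1 S) :
    Row p S := by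
  rcases ht with h | h
  · exact Row.of_twoStrict h2 h
  · exact Row.of_im (h1 h) him

end Cfsg.Agent.H759.Dl
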